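import Cfsg.Agent.Spor.ThD.L.D0

set_option autoImplicit false
set_option maxRecDepth 100000000
set_option Elab.async false

namespace Cfsg.Agent.Spor.ThD.L

theorem gr4 : sub M3 (U.growI W1 [1, 2, 3, 4, 5, 6, 6, 5, 4, 2, 1, 0, 1, 2, 3, 4, 5, 6, 6, 5, 2, 1, 0, 3] (Nat.shiftLeft 1 0)) = true := by decide +kernel

theorem cl6 : band (U.closedW W1 M3) (sub (Nat.shiftLeft 1 0) M3) = true := by decide +kernel

theorem sz7 : sizeOk 10 M3 819 = true := by decide +kernel

theorem fx9 : U.closedW W2 (Nat.shiftLeft 1 0) = true := by decide +kernel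

theorem gr11 : sub M10 (U.growI W2 [0, 1, 2, 3, 4, 5, 5, 4, 3, 1, 2, 3, 4, 5, 5, 4, 1, 2, 3, 4, 5, 5, 4, 1, 2, 3, 4, 5, 5] (Nat.shiftLeft 1 1)) = true := by decide +kernel

theorem cl13 : band (U.closedW W2 M10) (sub (Nat.shiftLeft 1 1) M10) = true := by decide +kernel

theorem sz14 : sizeOk 10 M10 512 = true := by decide +kernel

theorem fx17 : U.closedW W16 (Nat.shiftLeft 1 1) = true := by decide +kernel

theorem gr18 : sub 0xf0018228 (U.growI W16 [0, 1, 2, 3, 3, 2, 1] (Nat.shiftLeft 1 3)) = true := by decide +kernel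

theorem cl20 : band (U.closedW W16 0xf0018228) (sub (Nat.shiftLeft 1 3) 0xf0018228) = true := by decide +kernel

theorem sz21 : sizeOk 10 0xf0018228 9 = true := by decide +kernel

theorem fx24 : U.closedW W23 (Nat.shiftLeft 1 3) = true := by decide +kernel

theorem gr25 : sub 0xf0018220 (U.growI W23 [0, 1, 2, 2, 1, 0] (Nat.shiftLeft 1 5)) = true := by decide +kernel

theorem cl27 : band (U.closedW W23 0xf0018220) (sub (Nat.shiftLeft 1 5) 0xf0018220) = true := by decide +kernel

theorem sz28 : sizeOk 10 0xf0018220 8 = true := by decide +kernel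

theorem fx31 : U.closedW W30 (Nat.shiftLeft 1 5) = true := by decide +kernel

theorem gr33 : sub M32 (U.growI W30 [0, 1, 1, 0, 0, 1, 0] (Nat.shiftLeft 1 90)) = true := by decide +kernel

theorem cl35 : band (U.closedW W30 M32) (sub (Nat.shiftLeft 1 90) M32) = true := by decide +kernel

theorem sz36 : sizeOk 10 M32 21 = true := by decide +kernel

end Cfsg.Agent.Spor.ThD.L
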