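import Cfsg.Agent.Spor.Prim
import Cfsg.Agent.Spor.ThD.Main
import Cfsg.Agent.Spor.ThD.L.C0
import Cfsg.Agent.Spor.TT2

set_option autoImplicit false
set_option maxRecDepth 100000000
set_option Elab.async false

namespace Cfsg.Agent.Spor.ThD.L

theorem hU : U.Ok 10 := U.ok_of 10 (show AllP (fun n => Net.okb 10 n = true) [n0, n1, n2, n3, n4, n5, n6] from AllP.cons ok0 (AllP.cons ok1 (AllP.cons ok2 (AllP.cons ok3 (AllP.cons ok4 (AllP.cons ok5 (AllP.cons ok6 (AllP.nil))))))))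

theorem hfP : ∀ j < 7, U.fP [1, 3, 5, 7, 9, 11, 13] j = fP j := by
  intro j hj
  interval_cases j <;> rfl
theorem eG : gsub 7 fP = U.lsub W1 := (gsub_congr hfP).symm.trans (lsub_eq_gsub U [1, 3, 5, 7, 9, 11, 13])
theorem upz1 : ev (atm 7 fP) [0] = U.τ 1 := pz1
theorem upz3 : ev (atm 7 fP) [2] = U.τ 3 := pz2
theorem upz5 : ev (atm 7 fP) [4] = U.τ 5 := pz3
theorem upz7 : ev (atm 7 fP) [6] = U.τ 7 := pz4
theorem upz9 : ev (atm 7 fP) [8] = U.τ 9 := pz5
theorem upz11 : ev (atm 7 fP) [10] = U.τ 11 := pz6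
theorem upz13 : ev (atm 7 fP) [12] = U.τ 13 := pz7
theorem eH : wsub 7 fP BW = U.lsub W2 :=
  lsub_eq_of_all₂ (show List.Forall₂ _ [[0], [4], [6], [8], [10], [12]] [[1], [5], [7], [9], [11], [13]] from List.Forall₂.cons (upz1.trans (one_mul _).symm) (List.Forall₂.cons (upz5.trans (one_mul _).symm) (List.Forall₂.cons (upz7.trans (one_mul _).symm) (List.Forall₂.cons (upz9.trans (one_mul _).symm) (List.Forall₂.cons (upz11.trans (one_mul _).symm) (List.Forall₂.cons (upz13.trans (one_mul _).symm) (List.Forall₂.nil)))))))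
theorem vpz1 : PZ U (atm 7 fP) EXU 1 := pz1
theorem vpz2 : PZ U (atm 7 fP) EXU 2 := PZ.of_inv hiv vpz1 (by decide +kernel)
theorem vpz3 : PZ U (atm 7 fP) EXU 3 := pz2
theorem vpz4 : PZ U (atm 7 fP) EXU 4 := PZ.of_inv hiv vpz3 (by decide +kernel)
theorem vpz5 : PZ U (atm 7 fP) EXU 5 := pz3
theorem vpz6 : PZ U (atm 7 fP) EXU 6 := PZ.of_inv hiv vpz5 (by decide +kernel)
theorem vpz7 : PZ U (atm 7 fP) EXU 7 := pz4
theorem vpz8 : PZ U (atm 7 fP) EXU 8 := PZ.of_inv hiv vpz7 (by decide +kernel)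
theorem vpz9 : PZ U (atm 7 fP) EXU 9 := pz5
theorem vpz10 : PZ U (atm 7 fP) EXU 10 := PZ.of_inv hiv vpz9 (by decide +kernel)
theorem vpz11 : PZ U (atm 7 fP) EXU 11 := pz6
theorem vpz12 : PZ U (atm 7 fP) EXU 12 := PZ.of_inv hiv vpz11 (by decide +kernel)
theorem vpz13 : PZ U (atm 7 fP) EXU 13 := pz7
theorem vpz14 : PZ U (atm 7 fP) EXU 14 := PZ.of_inv hiv vpz13 (by decide +kernel)
theorem hPZU : AllP (PZ U (atm 7 fP) EXU) LU :=
  show AllP (PZ U (atm 7 fP) EXU) [1, 2, 3, 4, 5, 6, 7, 8, 9, 10, 11, 12, 13, 14] from AllP.cons vpz1 (AllP.cons vpz2 (AllP.cons vpz3 (AllP.cons vpz4 (AllP.cons vpz5 (AllP.cons vpz6 (AllP.cons vpz7 (AllP.cons vpz8 (AllP.cons vpz9 (AllP.cons vpz10 (AllP.cons vpz11 (AllP.cons vpz12 (AllP.cons vpz13 (AllP.cons vpz14 (AllP.nil))))))))))))))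
theorem reach5 : Reach (U.lsub W1) 0 M3 := (Reach.grow hU (Reach.base _ 0) gr4)
theorem orb8 : (orbS (U.lsub W1) 0).ncard = 819 := reach5.ncard hU cl6 sz7
theorem orb8e : orbS (U.lsub W1) 0 = {c | Nat.testBit M3 c = true} := reach5.orb hU cl6
theorem reach12 : Reach (U.lsub W2) 1 M10 := (Reach.grow hU (Reach.base _ 1) gr11)
theorem orb15 : (orbS (U.lsub W2) 1).ncard = 512 := reach12.ncard hU cl13 sz14
theorem orb15e : orbS (U.lsub W2) 1 = {c | Nat.testBit M10 c = true} := reach12.orb hU cl13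
theorem reach19 : Reach (U.lsub W16) 3 0xf0018228 := (Reach.grow hU (Reach.base _ 3) gr18)
theorem orb22 : (orbS (U.lsub W16) 3).ncard = 9 := reach19.ncard hU cl20 sz21
theorem orb22e : orbS (U.lsub W16) 3 = {c | Nat.testBit 0xf0018228 c = true} := reach19.orb hU cl20
theorem reach26 : Reach (U.lsub W23) 5 0xf0018220 := (Reach.grow hU (Reach.base _ 5) gr25)
theorem orb29 : (orbS (U.lsub W23) 5).ncard = 8 := reach26.ncard hU cl27 sz28
theorem orb29e : orbS (U.lsub W23) 5 = {c | Nat.testBit 0xf0018220 c = true} := reach26.orb hU cl27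
theorem reach34 : Reach (U.lsub W30) 90 M32 := (Reach.grow hU (Reach.base _ 90) gr33)
theorem orb37 : (orbS (U.lsub W30) 90).ncard = 21 := reach34.ncard hU cl35 sz36
theorem orb37e : orbS (U.lsub W30) 90 = {c | Nat.testBit M32 c = true} := reach34.orb hU cl35
theorem lb38 : 21 ∣ Nat.card (U.lsub W30) := dvd_card_orb orb37
theorem lb39 : 168 ∣ Nat.card (U.lsub W23) :=
  dvd_card_step (s := 8) (M := 21) (B := U.lsub W30) (U.lsub_sub (by decide)) (hU.fixes fx31) orb29 lb38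
theorem lb40 : 1512 ∣ Nat.card (U.lsub W16) :=
  dvd_card_step (s := 9) (M := 168) (B := U.lsub W23) (U.lsub_sub (by decide)) (hU.fixes fx24) orb22 lb39
theorem lb41 : 774144 ∣ Nat.card (U.lsub W2) :=
  dvd_card_step (s := 512) (M := 1512) (B := U.lsub W16) (U.lsub_sub (by decide)) (hU.fixes fx17) orb15 lb40
theorem lb : 634023936 ∣ Nat.card (U.lsub W1) :=
  dvd_card_step (s := 819) (M := 774144) (B := U.lsub W2) (U.lsub_sub (by decide)) (hU.fixes fx9) orb8 lb41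

end Cfsg.Agent.Spor.ThD.L
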