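import Cfsg.Agent.Spor.Chk2
import Cfsg.Agent.Spor.ThD.D0

set_option autoImplicit false
set_option maxRecDepth 100000000
set_option Elab.async false
noncomputable section

namespace Cfsg.Agent.Spor.ThD.L

def W1 : List (List Nat) := [[1], [3], [5], [7], [9], [11], [13]]

def W2 : List (List Nat) := [[1], [5], [7], [9], [11], [13]]

def EXU : List (List Nat) := [[], [0], [1], [2], [3], [4], [5], [6], [7], [8], [9], [10], [11], [12], [13]]
def LU : List Nat := [1, 2, 3, 4, 5, 6, 7, 8, 9, 10, 11, 12, 13, 14]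

def M3 : Nat := nat_lit 0x7ffffffffffffffffffffffffffffffffffffffffffffffffffffffffffffffffffffffffffffffffffffffffffffffffffffffffffffffffffffffffffffffffffffffffffffffffffffffffffffffffffffffffffffffffffffffffffffffffffffffffffff

def M10 : Nat := nat_lit 0x7ffffffffffffff1fffffffff3ffffff8003fffffff807fff0003ffffffffffff0000fffffc0000003fffffffff80007f8001ffffffffffc0000003ffc0003ffffffc000e010ffffffffc0003c01ffff804001ffff00407fc0000ff801fc001fc3f80fe71dbbe

def W16 : List (List Nat) := [[7], [9], [11], [13]]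

def W23 : List (List Nat) := [[9], [11], [13]]

def W30 : List (List Nat) := [[11], [13]]

def M32 : Nat := nat_lit 0x2100000000000009fe000000000000e1000000003c0000001000000040000000000000000000000

def U : Tab := ⟨[n0, n1, n2, n3, n4, n5, n6], [⟨0, false, 0, 0, []⟩, ⟨0, false, 0, 0, []⟩, ⟨0, true, 0, 0, []⟩, ⟨1, false, 0, 0, []⟩, ⟨1, true, 0, 0, []⟩, ⟨2, false, 0, 0, []⟩, ⟨2, true, 0, 0, []⟩, ⟨3, false, 0, 0, []⟩, ⟨3, true, 0, 0, []⟩, ⟨4, false, 0, 0, []⟩, ⟨4, true, 0, 0, []⟩, ⟨5, false, 0, 0, []⟩, ⟨5, true, 0, 0, []⟩, ⟨6, false, 0, 0, []⟩, ⟨6, true, 0, 0, []⟩]⟩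

end Cfsg.Agent.Spor.ThD.L
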